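import Groth.Agent.Lib.CurveCartier25.Scheme
import Groth.Agent.Lib.CurveCartier25.Rank
import Mathlib.RingTheory.Flat.Localization
import Mathlib.RingTheory.Localization.BaseChange

/-! # Relative effective Cartier divisors: flatness -/

set_option autoImplicit false
universe u

set_option backward.isDefEq.respectTransparency.types false

open CategoryTheory AlgebraicGeometry TopologicalSpace
open scoped nonZeroDivisors TensorProduct

namespace Groth.Agent.RelEff26

/-- Flatness of the closed subscheme read on quotients. -/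
theorem flat_subscheme_of_quotient {X S : Scheme.{u}} (f : X ⟶ S) (I : X.IdealSheafData)
    (h : ∀ x : X, x ∈ I.support → ∃ (U : S.affineOpens) (V : X.affineOpens) (_ : x ∈ V.1) (e : V.1 ≤ f ⁻¹ᵁ U.1),
      ((Ideal.Quotient.mk (I.ideal V)).comp (f.appLE U.1 V.1 e).hom).Flat) :
    Flat (I.subschemeι ≫ f) := by
  refine (HasRingHomProperty.iff_exists_appLE (P := @Flat)
    (RingHom.Flat.stableUnderComposition.stableUnderCompositionWithLocalizationAway
      RingHom.Flat.holdsForLocalizationAway).left).2 fun z => ?_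
  obtain ⟨U, V, hxV, e, hfl⟩ := h (I.subschemeι z) (by
    have : I.subschemeι z ∈ Set.range I.subschemeι := ⟨z, rfl⟩
    rwa [Scheme.IdealSheafData.range_subschemeι] at this)
  have e' : I.subschemeι ⁻¹ᵁ V.1 ≤ (I.subschemeι ≫ f) ⁻¹ᵁ U.1 := I.subschemeι.preimage_mono e
  exact ⟨U, ⟨_, V.2.preimage I.subschemeι⟩, hxV, e',
    CurveCartier25.appLE_prop_of_quotient f I RingHom.Flat.respectsIso U V e e' hfl⟩

theorem exists_charts {X S : Scheme.{u}} (f : X ⟶ S) (x : X) :
    ∃ U : S.affineOpens, x ∈ f ⁻¹ᵁ U.1 := by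
  obtain ⟨_, ⟨U, hU, rfl⟩, hsU, -⟩ := S.isBasis_affineOpens.exists_subset_of_mem_open
    (Set.mem_univ (f x)) isOpen_univ
  exact ⟨⟨U, hU⟩, hsU⟩

/-- The sum of two flat relative effective Cartier divisors is flat. -/
theorem flat_mul {X S : Scheme.{u}} (f : X ⟶ S) (I₁ I₂ : X.IdealSheafData) (h₁ : BlowUp.IsEffCartierIdeal I₁)
    (h₂ : BlowUp.IsEffCartierIdeal I₂) (hf₁ : Flat (I₁.subschemeι ≫ f)) (hf₂ : Flat (I₂.subschemeι ≫ f)) :
    Flat ((I₁ * I₂).subschemeι ≫ f) := by
  refine flat_subscheme_of_quotient f _ fun x _ => ?_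
  obtain ⟨U, hxU⟩ := exists_charts f x
  obtain ⟨V, hxV, e, ⟨g₁, hg₁⟩, g₂, hg₂⟩ := EffCartier.exists_isEqn₂ h₁ h₂ (x := x) (W := f ⁻¹ᵁ U.1) hxU
  refine ⟨U, V, hxV, e, ?_⟩
  algebraize [(f.appLE U.1 V.1 e).hom]
  have hV : ∀ (I : X.IdealSheafData), Flat (I.subschemeι ≫ f) → Module.Flat Γ(S, U.1) (Γ(X, V.1) ⧸ I.ideal V) :=
    fun I hI => by
      rw [← RingHom.flat_algebraMap_iff]
      exact CurveCartier25.prop_quotient (P := @Flat) f I hI U V e
  haveI : Module.Flat Γ(S, U.1) (Γ(X, V.1) ⧸ Ideal.span {g₁}) := hg₁.ideal_eq ▸ hV I₁ hf₁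
  haveI : Module.Flat Γ(S, U.1) (Γ(X, V.1) ⧸ Ideal.span {g₂}) := hg₂.ideal_eq ▸ hV I₂ hf₂
  have := CurveCartier25.flat_quotient_mul (A := Γ(S, U.1)) (g := g₁) hg₂.mem
  rw [← Ideal.span_singleton_mul_span_singleton, ← hg₁.ideal_eq, ← hg₂.ideal_eq] at this
  rw [Scheme.IdealSheafData.ideal_mul, Pi.mul_apply]
  exact RingHom.flat_algebraMap_iff.2 this

/-- The difference of two flat relative effective Cartier divisors is flat. -/
theorem flat_difference {X S : Scheme.{u}} (f : X ⟶ S) (I₁ I₂ I : X.IdealSheafData)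
    (h₁ : BlowUp.IsEffCartierIdeal I₁) (h : BlowUp.IsEffCartierIdeal I) (hf₁ : Flat (I₁.subschemeι ≫ f))
    (hf₂ : Flat (I₂.subschemeι ≫ f)) (hsum : I₁ * I = I₂) : Flat (I.subschemeι ≫ f) := by
  refine flat_subscheme_of_quotient f _ fun x _ => ?_
  obtain ⟨U, hxU⟩ := exists_charts f x
  obtain ⟨V, hxV, e, ⟨g₁, hg₁⟩, g, hg⟩ := EffCartier.exists_isEqn₂ h₁ h (x := x) (W := f ⁻¹ᵁ U.1) hxU
  refine ⟨U, V, hxV, e, ?_⟩
  algebraize [(f.appLE U.1 V.1 e).hom]
  have hV : ∀ (J : X.IdealSheafData), Flat (J.subschemeι ≫ f) → Module.Flat Γ(S, U.1) (Γ(X, V.1) ⧸ J.ideal V) :=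
    fun J hJ => by
      rw [← RingHom.flat_algebraMap_iff]
      exact CurveCartier25.prop_quotient (P := @Flat) f J hJ U V e
  have he : I₂.ideal V = Ideal.span {g * g₁} := by
    rw [← hsum, Scheme.IdealSheafData.ideal_mul, Pi.mul_apply, hg₁.ideal_eq, hg.ideal_eq,
      Ideal.span_singleton_mul_span_singleton, mul_comm]
  haveI : Module.Flat Γ(S, U.1) (Γ(X, V.1) ⧸ Ideal.span {g₁}) := hg₁.ideal_eq ▸ hV I₁ hf₁
  haveI : Module.Flat Γ(S, U.1) (Γ(X, V.1) ⧸ Ideal.span {g * g₁}) := he ▸ hV I₂ hf₂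
  have := CurveCartier25.flat_quotient_left (A := Γ(S, U.1)) (g := g) hg₁.mem
  rw [← hg.ideal_eq] at this
  exact RingHom.flat_algebraMap_iff.2 this

/-- A module with a regular element, flat modulo it and after inverting it, is flat. -/
theorem flat_of_quotient_of_away {A C : Type u} [CommRing A] [CommRing C] [Algebra A C] {g : C} (hg : g ∈ C⁰)
    (L : Type u) [CommRing L] [Algebra C L] [Algebra A L] [IsScalarTower A C L] [IsLocalization.Away g L]
    [Module.Flat A (C ⧸ Ideal.span {g})] [Module.Flat A L] : Module.Flat A C := by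
  refine Module.Flat.iff_rTensor_injective'.2 fun J => ?_
  let φ : C →ₗ[A] C := LinearMap.mulLeft A g
  have hφ : Function.Injective φ := fun a b hab => (mul_cancel_left_mem_nonZeroDivisors hg).1 hab
  let π : C →ₗ[A] C ⧸ Ideal.span {g} := (Ideal.Quotient.mkₐ A (Ideal.span {g})).toLinearMap
  have hex : Function.Exact φ π := fun c => by
    constructor
    · intro hc
      obtain ⟨d, hd⟩ := Ideal.mem_span_singleton'.1 (Ideal.Quotient.eq_zero_iff_mem.1 hc)
      exact ⟨d, (mul_comm g d).trans hd⟩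
    · rintro ⟨d, rfl⟩
      exact Ideal.Quotient.eq_zero_iff_mem.2 (Ideal.mem_span_singleton'.2 ⟨d, mul_comm d g⟩)
  have hinj : Function.Injective (φ.lTensor J) :=
    LinearMap.lTensor_injective_of_exact_of_flat π Ideal.Quotient.mk_surjective φ hφ hex J
  let loc : C →ₗ[C] L := Algebra.linearMap C L
  haveI : IsLocalizedModule (Submonoid.powers g) loc :=
    (isLocalizedModule_iff_isLocalization' _ _).2 inferInstance
  rw [injective_iff_map_eq_zero]
  intro x hx
  let ψ : C ⊗[A] J →ₗ[C] L ⊗[A] J := TensorProduct.AlgebraTensorModule.rTensor A J loc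
  haveI : IsLocalizedModule (Submonoid.powers g) ψ := inferInstance
  have h0 : ψ (TensorProduct.comm A J C x) = 0 := by
    apply Module.Flat.lTensor_preserves_injective_linearMap (M := L) J.subtype J.injective_subtype
    rw [map_zero]
    have key : ∀ y : J ⊗[A] C, J.subtype.lTensor L (ψ (TensorProduct.comm A J C y)) =
        (TensorProduct.comm A A L) ((loc.restrictScalars A).lTensor A (J.subtype.rTensor C y)) := fun y => by
      induction y using TensorProduct.induction_on with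
      | zero => simp only [map_zero]
      | tmul a c => rfl
      | add a b ha hb => simp only [map_add, ha, hb]
    rw [key, hx, map_zero, map_zero]
  obtain ⟨⟨_, n, rfl⟩, hn⟩ := (IsLocalizedModule.eq_zero_iff (Submonoid.powers g) ψ).1 h0
  have hn' : g ^ n • TensorProduct.comm A J C x = 0 := hn
  have hcomm : ∀ (m : ℕ), g ^ m • TensorProduct.comm A J C x =
      TensorProduct.comm A J C ((φ.lTensor J)^[m] x) := fun m => by
    induction m with
    | zero => rw [pow_zero, one_smul, Function.iterate_zero_apply]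
    | succ m ih =>
      rw [pow_succ', mul_smul, ih, Function.iterate_succ_apply']
      generalize (φ.lTensor J)^[m] x = y
      induction y using TensorProduct.induction_on with
      | zero => simp only [map_zero, smul_zero]
      | tmul a c => rfl
      | add a b ha hb => simp only [map_add, smul_add, ha, hb]
  rw [hcomm] at hn'
  refine (hinj.iterate n) ?_
  rw [iterate_map_zero]
  exact (TensorProduct.comm A J C).map_eq_zero_iff.1 hn'

/-- A morphism flat off a flat relative effective Cartier divisor is flat. -/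
theorem flat_of_flat_off {X S : Scheme.{u}} (f : X ⟶ S) (I : X.IdealSheafData) (hI : BlowUp.IsEffCartierIdeal I)
    (hfI : Flat (I.subschemeι ≫ f)) (hflat : ∀ x : X, x ∉ I.support → (f.stalkMap x).hom.Flat) : Flat f := by
  refine (HasRingHomProperty.iff_exists_appLE (P := @Flat)
    (RingHom.Flat.stableUnderComposition.stableUnderCompositionWithLocalizationAway
      RingHom.Flat.holdsForLocalizationAway).left).2 fun x => ?_
  obtain ⟨U, hxU⟩ := exists_charts f x
  obtain ⟨V, hxV, e, g, hg⟩ := EffCartier.exists_isEqn hI (x := x) (W := f ⁻¹ᵁ U.1) hxU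
  refine ⟨U, V, hxV, e, ?_⟩
  let W := X.basicOpen g
  haveI : Flat (W.ι ≫ f) := by
    refine (Flat.iff_flat_stalkMap _).2 fun w => ?_
    rw [Scheme.Hom.stalkMap_comp]
    refine RingHom.Flat.comp (hflat _ fun hs => ?_) (RingHom.Flat.of_bijective
      (ConcreteCategory.bijective_of_isIso (W.ι.stalkMap w)))
    have hw : W.ι w ∈ X.basicOpen g := w.2
    rw [EffCartier.basicOpen_eq hg] at hw
    exact hw.1 hs
  have hW : IsAffineOpen W := V.2.basicOpen g
  have hle : W ≤ f ⁻¹ᵁ U.1 := (X.basicOpen_le g).trans e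
  have e1 : (⊤ : W.toScheme.Opens) ≤ (W.ι ≫ f) ⁻¹ᵁ U.1 := fun w _ => hle w.2
  have hflatW : (f.appLE U.1 W hle).hom.Flat := by
    haveI : IsAffine W.toScheme := hW
    have h1 := HasRingHomProperty.appLE @Flat (W.ι ≫ f) ‹_› U ⟨⊤, isAffineOpen_top _⟩ e1
    have h2 : (W.ι ≫ f).appLE U.1 ⊤ e1 = f.appLE U.1 W hle ≫ W.topIso.inv := by
      rw [← Scheme.Hom.appLE_comp_appLE W.ι f U.1 W ⊤ hle (fun w _ => w.2), Scheme.Opens.ι_appLE]
      rfl
    rw [h2] at h1
    have h3 := RingHom.Flat.respectsIso.1 _ W.topIso.commRingCatIsoToRingEquiv h1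
    have e3 : W.topIso.commRingCatIsoToRingEquiv.toRingHom.comp (f.appLE U.1 W hle ≫ W.topIso.inv).hom =
        (f.appLE U.1 W hle).hom := RingHom.ext fun a => W.topIso.inv_hom_id_apply _
    exact e3 ▸ h3
  letI : Algebra Γ(S, U.1) Γ(X, V.1) := (f.appLE U.1 V.1 e).hom.toAlgebra
  letI : Algebra Γ(S, U.1) Γ(X, W) := (f.appLE U.1 W hle).hom.toAlgebra
  letI : Algebra Γ(X, V.1) Γ(X, W) := (X.presheaf.map (homOfLE (X.basicOpen_le g)).op).hom.toAlgebra
  haveI : IsScalarTower Γ(S, U.1) Γ(X, V.1) Γ(X, W) := IsScalarTower.of_algebraMap_eq fun a => by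
    show f.appLE U.1 W hle a = X.presheaf.map _ (f.appLE U.1 V.1 e a)
    rw [← f.appLE_map e (homOfLE (X.basicOpen_le g)).op]
    rfl
  haveI : IsLocalization.Away g Γ(X, W) := V.2.isLocalization_basicOpen g
  haveI : Module.Flat Γ(S, U.1) Γ(X, W) := RingHom.flat_algebraMap_iff.1 hflatW
  haveI : Module.Flat Γ(S, U.1) (Γ(X, V.1) ⧸ Ideal.span {g}) := by
    have hq : Module.Flat Γ(S, U.1) (Γ(X, V.1) ⧸ I.ideal V) := by
      rw [← RingHom.flat_algebraMap_iff]
      exact CurveCartier25.prop_quotient (P := @Flat) f I hfI U V e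
    exact hg.ideal_eq ▸ hq
  exact RingHom.flat_algebraMap_iff.2 (flat_of_quotient_of_away hg.mem Γ(X, W))

end Groth.Agent.RelEff26
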