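/-
Fibrewise effective Cartier locally principal ideals.
-/
import Groth.Agent.Lib.RelEff26.Basic
import Groth.Agent.Lib.CurveCartier25.Ring
import Groth.Agent.Lib.Slice4.Regular
import Groth.Agent.Lib.CMSlice4.Main
import Groth.Agent.Lib.EGA43Top.FibreStalk

universe u

open CategoryTheory CategoryTheory.Limits AlgebraicGeometry TopologicalSpace RingTheory.Sequence
open scoped nonZeroDivisors

set_option backward.isDefEq.respectTransparency.types false

namespace Groth.Agent.RelEff26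

open Groth.Agent.EffCartier

/-- An equation of a fibrewise effective Cartier ideal is a nonzerodivisor in the local ring of the fibre. -/
theorem germ_fibre_mem_nzd {X S : Scheme.{u}} (f : X ⟶ S) (I : X.IdealSheafData) (s : S)
    (hfib : BlowUp.IsEffCartierIdeal (I.comap (f.fiberι s))) (z : f.fiber s) {U : X.affineOpens}
    (hzU : f.fiberι s z ∈ U.1) {g : Γ(X, U.1)} (hg : I.ideal U = Ideal.span {g}) :
    (f.fiberι s).stalkMap z (X.presheaf.germ U.1 _ hzU g) ∈ ((f.fiber s).presheaf.stalk z)⁰ := by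
  obtain ⟨V, hzV, hVU, k, hk⟩ := exists_isEqn hfib (x := z) (W := f.fiberι s ⁻¹ᵁ U.1) hzU
  have h := hk.ideal_eq
  rw [comap_ideal I (f.fiberι s) U V hVU, hg, Ideal.map_span, Set.image_singleton] at h
  obtain ⟨c, hc⟩ := Ideal.mem_span_singleton'.mp (h.le (Ideal.mem_span_singleton_self _))
  obtain ⟨d, hd⟩ := Ideal.mem_span_singleton'.mp (h.ge (Ideal.mem_span_singleton_self _))
  have hcd : d * c = 1 := by
    have h0 : (d * c - 1) * k = 0 := by rw [sub_mul, one_mul, mul_assoc, hc, hd, sub_self]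
    exact sub_eq_zero.mp ((mem_nonZeroDivisors_iff_right.mp hk.mem) _ h0)
  have hnzd : (f.fiberι s).appLE U.1 V.1 hVU g ∈ Γ(f.fiber s, V.1)⁰ :=
    hc ▸ mul_mem (IsUnit.of_mul_eq_one_right d hcd).mem_nonZeroDivisors hk.mem
  letI := TopCat.Presheaf.algebra_section_stalk (f.fiber s).presheaf (⟨z, hzV⟩ : V.1)
  have := V.2.isLocalization_stalk ⟨z, hzV⟩
  have h2 := IsLocalization.map_nonZeroDivisors_le (V.2.primeIdealOf ⟨z, hzV⟩).asIdeal.primeCompl
    ((f.fiber s).presheaf.stalk z) ⟨_, hnzd, rfl⟩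
  change (f.fiber s).presheaf.germ V.1 z hzV _ ∈ _ at h2
  rw [Scheme.Hom.appLE, CommRingCat.comp_apply, TopCat.Presheaf.germ_res_apply, ← Scheme.Hom.germ_stalkMap_apply] at h2
  exact h2

/-- A locally principal ideal which is effective Cartier on each fibre of a flat morphism of finite presentation. -/
theorem exists_nhd_regular_flat {X S : Scheme.{u}} (φ : X ⟶ S) [Flat φ] [LocallyOfFinitePresentation φ]
    (I : X.IdealSheafData) (hfib : ∀ s : S, BlowUp.IsEffCartierIdeal (I.comap (φ.fiberι s))) {x : X}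
    (hx : x ∈ I.support) {U₀ : X.affineOpens} (hxU₀ : x ∈ U₀.1) {g₀ : Γ(X, U₀.1)} (hg₀ : I.ideal U₀ = Ideal.span {g₀}) :
    ∃ (W : S.affineOpens) (V : X.affineOpens) (_ : x ∈ V.1) (e : V.1 ≤ φ ⁻¹ᵁ W.1),
      (∃ g, IsEqn I V g) ∧ ((Ideal.Quotient.mk (I.ideal V)).comp (φ.appLE W.1 V.1 e).hom).Flat := by
  obtain ⟨W, hxW⟩ := exists_charts φ x
  obtain ⟨r, hr, hxr⟩ := U₀.2.exists_basicOpen_le (V := φ ⁻¹ᵁ W.1) ⟨x, hxW⟩ hxU₀
  let U : X.affineOpens := X.affineBasicOpen r
  let g : Γ(X, U.1) := X.presheaf.map (homOfLE (X.basicOpen_le r)).op g₀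
  have hg : I.ideal U = Ideal.span {g} := by
    rw [← I.map_ideal (X.affineBasicOpen_le r), hg₀, Ideal.map_span, Set.image_singleton]
    rfl
  have hxU : x ∈ U.1 := hxr
  algebraize [(φ.appLE W.1 U.1 hr).hom]
  haveI : Algebra.FinitePresentation Γ(S, W.1) Γ(X, U.1) := φ.finitePresentation_appLE W.2 U.2 hr
  haveI : Module.Flat Γ(S, W.1) Γ(X, U.1) :=
    RingHom.flat_algebraMap_iff.1 (HasRingHomProperty.appLE @Flat φ inferInstance W U hr)
  let q := (U.2.primeIdealOf ⟨x, hxU⟩).asIdeal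
  letI := X.presheaf.algebra_section_stalk (U := U.1) ⟨x, hxU⟩
  haveI : IsLocalization.AtPrime (X.presheaf.stalk x) q := U.2.isLocalization_stalk ⟨x, hxU⟩
  let St := X.presheaf.stalk x
  let N : Ideal St := ((q.comap (algebraMap Γ(S, W.1) Γ(X, U.1))).map (algebraMap Γ(S, W.1) Γ(X, U.1))).map
    (algebraMap Γ(X, U.1) St)
  have hgq : g ∈ q := by
    by_contra hna
    rw [Scheme.IdealSheafData.mem_support_iff_of_mem hxU, Scheme.mem_zeroLocus_iff] at hx
    exact hx g (hg.ge (Ideal.mem_span_singleton_self _))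
      ((X.mem_basicOpen g x hxU).mpr (IsLocalization.map_units St (⟨g, hna⟩ : q.primeCompl)))
  obtain ⟨s, z, rfl⟩ : ∃ (s : S) (z : φ.fiber s), φ.fiberι s z = x := ⟨φ x, φ.asFiber x, φ.fiberι_asFiber x⟩
  have hreg : IsSMulRegular (St ⧸ N) (Ideal.Quotient.mk N (algebraMap Γ(X, U.1) St g)) := by
    obtain ⟨e, he⟩ := EGA43Top.exists_ringEquiv_fiber_stalk φ s z
    have h1 := germ_fibre_mem_nzd φ I s (hfib s) z hxU hg
    have hN : (IsLocalRing.maximalIdeal (S.presheaf.stalk (φ (φ.fiberι s z)))).map (φ.stalkMap (φ.fiberι s z)).hom = N :=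
      CMSlice4.map_maximalIdeal_stalkMap φ W.2 U.2 hr hxU
    intro a b hab
    obtain ⟨a, rfl⟩ := Ideal.Quotient.mk_surjective a
    obtain ⟨b, rfl⟩ := Ideal.Quotient.mk_surjective b
    change Ideal.Quotient.mk N _ * Ideal.Quotient.mk N a = Ideal.Quotient.mk N _ * Ideal.Quotient.mk N b at hab
    rw [← map_mul, ← map_mul, Ideal.Quotient.eq, ← hN, ← Ideal.Quotient.eq] at hab
    have hab' := congrArg e hab
    rw [he, he, map_mul, map_mul] at hab'
    rw [Ideal.Quotient.eq, ← hN, ← Ideal.Quotient.eq]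
    refine e.injective ?_
    rw [he, he]
    exact (mul_cancel_left_mem_nonZeroDivisors h1).1 hab'
  have hfr := Slice4.fibReg_of_isWeaklyRegular (R := Γ(S, W.1)) q St [g] (by
    rw [List.map_singleton, isWeaklyRegular_cons_iff]
    exact ⟨hreg, IsWeaklyRegular.nil _ _⟩)
  obtain ⟨G, hG, hdata⟩ := Slice4.exists_regular_flat_away q [g] (by rw [Ideal.ofList_singleton]; exact (Ideal.span_singleton_le_iff_mem _).2 hgq) hfr
  let V : X.affineOpens := X.affineBasicOpen G
  have hVU : V.1 ≤ U.1 := X.basicOpen_le G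
  have hVW : V.1 ≤ φ ⁻¹ᵁ W.1 := hVU.trans hr
  letI : Algebra Γ(X, U.1) Γ(X, V.1) := (X.presheaf.map (homOfLE hVU).op).hom.toAlgebra
  haveI : IsLocalization.Away G Γ(X, V.1) := U.2.isLocalization_basicOpen G
  letI : Algebra Γ(S, W.1) Γ(X, V.1) := (φ.appLE W.1 V.1 hVW).hom.toAlgebra
  haveI : IsScalarTower Γ(S, W.1) Γ(X, U.1) Γ(X, V.1) := IsScalarTower.of_algebraMap_eq fun t =>
    congrArg (fun k => k t) (Scheme.Hom.appLE_map φ hr (homOfLE hVU).op).symm
  obtain ⟨hwr, hfl⟩ := hdata G dvd_rfl Γ(X, V.1)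
  have hgV : I.ideal V = Ideal.span {algebraMap Γ(X, U.1) Γ(X, V.1) g} := by
    rw [← I.map_ideal (X.affineBasicOpen_le G), hg, Ideal.map_span, Set.image_singleton]
    rfl
  refine ⟨W, V, (X.mem_basicOpen _ _ hxU).mpr (IsLocalization.map_units St (⟨G, hG⟩ : q.primeCompl)), hVW,
    ⟨_, ?_, hgV⟩, ?_⟩
  · rw [List.map_singleton, isWeaklyRegular_cons_iff] at hwr
    exact mem_nonZeroDivisors_iff_right.2 fun c hc => hwr.1.right_eq_zero_of_smul (by rw [smul_eq_mul, mul_comm, hc])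
  · have h2 := hfl 1 le_rfl
    rw [List.map_singleton, List.take_one, List.head?_cons, Option.toList_some, Ideal.ofList_singleton, ← hgV] at h2
    exact RingHom.flat_algebraMap_iff.2 h2

theorem effCartier_and_flat_of_fibres {X S : Scheme.{u}} (φ : X ⟶ S) [Flat φ] [LocallyOfFinitePresentation φ]
    (I : X.IdealSheafData)
    (hZ : ∀ x ∈ I.support, ∃ U : X.affineOpens, x ∈ U.1 ∧ ∃ g : Γ(X, U.1), I.ideal U = Ideal.span {g})
    (hfib : ∀ s : S, BlowUp.IsEffCartierIdeal (I.comap (φ.fiberι s))) :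
    BlowUp.IsEffCartierIdeal I ∧ Flat (I.subschemeι ≫ φ) := by
  refine ⟨fun x => ?_, flat_subscheme_of_quotient φ I fun x hx => ?_⟩
  · by_cases hx : x ∈ I.support
    · obtain ⟨U, hxU, g, hg⟩ := hZ x hx
      obtain ⟨W, V, hxV, e, ⟨k, hk⟩, -⟩ := exists_nhd_regular_flat φ I hfib hx hxU hg
      exact ⟨V, hxV, k, hk.mem, hk.ideal_eq⟩
    · obtain ⟨U, hU, hxU, -⟩ := exists_isAffineOpen_mem_and_subset (X := X) (x := x) (U := ⊤) trivial
      rw [Scheme.IdealSheafData.mem_support_iff_of_mem (U := ⟨U, hU⟩) hxU, Scheme.mem_zeroLocus_iff] at hx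
      push Not at hx
      obtain ⟨g, hg, hxg⟩ := hx
      refine ⟨X.affineBasicOpen (U := ⟨U, hU⟩) g, hxg, 1, one_mem _, ?_⟩
      rw [Ideal.span_singleton_one, ← I.map_ideal (X.affineBasicOpen_le g)]
      exact Ideal.eq_top_of_isUnit_mem _ (Ideal.mem_map_of_mem _ hg) (RingedSpace.isUnit_res_basicOpen _ _)
  · obtain ⟨U, hxU, g, hg⟩ := hZ x hx
    obtain ⟨W, V, hxV, e, -, hfl⟩ := exists_nhd_regular_flat φ I hfib hx hxU hg
    exact ⟨W, V, hxV, e, hfl⟩

/-- In a local ring, a principal ideal with regular generator generated by a set is generated by one of its elements. -/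
theorem exists_mem_generates {D : Type u} [CommRing D] [IsLocalRing D] {s : Set D} {d : D} (hd0 : d ∈ D⁰)
    (hd : Ideal.span s = Ideal.span {d}) : ∃ a ∈ s, Ideal.span s = Ideal.span {a} := by
  by_contra hne
  push Not at hne
  have hle : Ideal.span s ≤ Ideal.span {d} * IsLocalRing.maximalIdeal D := by
    refine Ideal.span_le.2 fun a ha => ?_
    obtain ⟨e, he⟩ := Ideal.mem_span_singleton'.1 (hd ▸ Ideal.subset_span ha : a ∈ Ideal.span {d})
    rw [SetLike.mem_coe, ← he, mul_comm e d]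
    refine Ideal.mul_mem_mul (Ideal.mem_span_singleton_self d) ?_
    rw [IsLocalRing.mem_maximalIdeal, mem_nonunits_iff]
    intro hu
    refine hne a ha ?_
    rw [hd, ← he, mul_comm e d, Ideal.span_singleton_mul_right_unit hu]
  obtain ⟨z, hz, hdz⟩ := Ideal.mem_span_singleton_mul.1 (hle (hd.symm ▸ Ideal.mem_span_singleton_self d))
  have : z - 1 = 0 := (mem_nonZeroDivisors_iff_right.mp hd0) _ (by rw [sub_mul, one_mul, mul_comm z d, hdz, sub_self])
  rw [sub_eq_zero.mp this, IsLocalRing.mem_maximalIdeal, mem_nonunits_iff] at hz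
  exact hz isUnit_one

/-- A flat closed subscheme of finite presentation with effective Cartier fibres is locally principal. -/
theorem exists_generator_of_fibres {X S : Scheme.{u}} (φ : X ⟶ S) [LocallyOfFinitePresentation φ]
    (I : X.IdealSheafData) [Flat (I.subschemeι ≫ φ)] [LocallyOfFinitePresentation (I.subschemeι ≫ φ)]
    (hfib : ∀ s : S, BlowUp.IsEffCartierIdeal (I.comap (φ.fiberι s))) {x : X} (hx : x ∈ I.support) :
    ∃ U : X.affineOpens, x ∈ U.1 ∧ ∃ g : Γ(X, U.1), I.ideal U = Ideal.span {g} := by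
  obtain ⟨W, hxW⟩ := exists_charts φ x
  obtain ⟨U', hU', hxU, hr⟩ := exists_isAffineOpen_mem_and_subset (X := X) (x := x) (U := φ ⁻¹ᵁ W.1) hxW
  let U : X.affineOpens := ⟨U', hU'⟩
  have hr : U.1 ≤ φ ⁻¹ᵁ W.1 := hr
  let A := Γ(S, W.1)
  let C := Γ(X, U.1)
  algebraize [(φ.appLE W.1 U.1 hr).hom]
  haveI : Algebra.FinitePresentation A C := φ.finitePresentation_appLE W.2 U.2 hr
  let J : Ideal C := I.ideal U
  have halg : algebraMap A (C ⧸ J) = (Ideal.Quotient.mk J).comp (φ.appLE W.1 U.1 hr).hom := rfl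
  haveI : Module.Flat A (C ⧸ J) := by
    rw [← RingHom.flat_algebraMap_iff, halg]
    exact CurveCartier25.prop_quotient (P := @Flat) φ I inferInstance W U hr
  haveI : Algebra.FinitePresentation A (C ⧸ J) := by
    rw [← RingHom.finitePresentation_algebraMap, halg]
    exact CurveCartier25.prop_quotient (P := @LocallyOfFinitePresentation) φ I inferInstance W U hr
  have hJ : J.FG := by
    have := Algebra.FinitePresentation.ker_fG_of_surjective (Ideal.Quotient.mkₐ A J) Ideal.Quotient.mk_surjective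
    rwa [show RingHom.ker (Ideal.Quotient.mkₐ A J).toRingHom = J from Ideal.mk_ker] at this
  let q := (U.2.primeIdealOf ⟨x, hxU⟩).asIdeal
  letI := X.presheaf.algebra_section_stalk (U := U.1) ⟨x, hxU⟩
  haveI : IsLocalization.AtPrime (X.presheaf.stalk x) q := U.2.isLocalization_stalk ⟨x, hxU⟩
  let St := X.presheaf.stalk x
  let pC : Ideal C := (q.comap (algebraMap A C)).map (algebraMap A C)
  obtain ⟨s, z, rfl⟩ : ∃ (s : S) (z : φ.fiber s), φ.fiberι s z = x := ⟨φ x, φ.asFiber x, φ.fiberι_asFiber x⟩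
  obtain ⟨e, he⟩ := EGA43Top.exists_ringEquiv_fiber_stalk φ s z
  have hN : (IsLocalRing.maximalIdeal (S.presheaf.stalk (φ (φ.fiberι s z)))).map (φ.stalkMap (φ.fiberι s z)).hom =
      pC.map (algebraMap C St) := CMSlice4.map_maximalIdeal_stalkMap φ W.2 U.2 hr hxU
  -- the equation on the fibre
  obtain ⟨V, hzV, hVU, k, hk⟩ := exists_isEqn (hfib s) (x := z) (W := φ.fiberι s ⁻¹ᵁ U.1) hxU
  let θ : C →+* (φ.fiber s).presheaf.stalk z :=
    ((φ.fiberι s).stalkMap z).hom.comp (algebraMap C St)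
  have hθ : θ = ((φ.fiber s).presheaf.germ V.1 z hzV).hom.comp ((φ.fiberι s).appLE U.1 V.1 hVU).hom := by
    ext c
    show (φ.fiberι s).stalkMap z (X.presheaf.germ U.1 _ hxU c) = (φ.fiber s).presheaf.germ V.1 z hzV _
    rw [Scheme.Hom.appLE, CommRingCat.comp_apply, TopCat.Presheaf.germ_res_apply, Scheme.Hom.germ_stalkMap_apply]
  have hspan : Ideal.span (θ '' (J : Set C)) = Ideal.span {(φ.fiber s).presheaf.germ V.1 z hzV k} := by
    change Ideal.map θ J = _
    have h := hk.ideal_eq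
    rw [comap_ideal I (φ.fiberι s) U V hVU] at h
    rw [hθ, ← Ideal.map_map, h, Ideal.map_span, Set.image_singleton]
  have hknzd : (φ.fiber s).presheaf.germ V.1 z hzV k ∈ ((φ.fiber s).presheaf.stalk z)⁰ := by
    letI := TopCat.Presheaf.algebra_section_stalk (φ.fiber s).presheaf (⟨z, hzV⟩ : V.1)
    have := V.2.isLocalization_stalk ⟨z, hzV⟩
    exact IsLocalization.map_nonZeroDivisors_le (V.2.primeIdealOf ⟨z, hzV⟩).asIdeal.primeCompl
      ((φ.fiber s).presheaf.stalk z) ⟨_, hk.mem, rfl⟩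
  obtain ⟨_, ⟨h, hhJ, rfl⟩, hgen⟩ := exists_mem_generates hknzd hspan
  -- Nakayama
  have hle : J.map (algebraMap C St) ≤ Ideal.span {algebraMap C St h} := by
    refine Submodule.le_of_le_smul_of_le_jacobson_bot (hJ.map _)
      (le_of_eq (IsLocalRing.jacobson_eq_maximalIdeal ⊥ bot_ne_top).symm) ?_
    rw [Ideal.map_le_iff_le_comap]
    intro c hc
    obtain ⟨d, hd⟩ := Ideal.mem_span_singleton'.1
      (hgen ▸ Ideal.subset_span ⟨c, hc, rfl⟩ : θ c ∈ Ideal.span {θ h})
    obtain ⟨d', hd'⟩ := e.surjective d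
    obtain ⟨d', rfl⟩ := Ideal.Quotient.mk_surjective d'
    have hmem : algebraMap C St c - d' * algebraMap C St h ∈ pC.map (algebraMap C St) := by
      rw [← hN, ← Ideal.Quotient.eq]
      refine e.injective ?_
      rw [he, he, map_mul, ← he d', hd']
      exact hd.symm
    obtain ⟨⟨a, t⟩, hat⟩ := IsLocalization.surj q.primeCompl d'
    have hat : d' * algebraMap C St t = algebraMap C St a := hat
    have hmem' : algebraMap C St (t * c - a * h) ∈ pC.map (algebraMap C St) := by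
      have h2 := Ideal.mul_mem_left _ (algebraMap C St t) hmem
      convert h2 using 1
      rw [map_sub, map_mul, map_mul, ← hat]
      ring
    obtain ⟨t', ht', hmem''⟩ : ∃ t' ∈ q.primeCompl, t' * (t * c - a * h) ∈ pC :=
      (IsLocalization.algebraMap_mem_map_algebraMap_iff q.primeCompl St pC _).1 hmem'
    have h3 := Ideal.mem_map_of_mem (algebraMap C St) (CurveCartier25.mem_map_mul_of_flat J _
      (Ideal.mul_mem_left _ t' (sub_mem (Ideal.mul_mem_left _ _ hc) (Ideal.mul_mem_left _ _ hhJ))) hmem'')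
    rw [Ideal.map_mul] at h3
    have hpm : pC.map (algebraMap C St) ≤ IsLocalRing.maximalIdeal St := by
      rw [← IsLocalization.AtPrime.map_eq_maximalIdeal q St]
      exact Ideal.map_mono Ideal.map_comap_le
    have hu : IsUnit (algebraMap C St (t' * t)) :=
      IsLocalization.map_units St (⟨_, q.primeCompl.mul_mem ht' t.2⟩ : q.primeCompl)
    rw [Ideal.mem_comap]
    refine (Ideal.unit_mul_mem_iff_mem _ hu).1 ?_
    have e' : algebraMap C St (t' * t) * algebraMap C St c =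
        algebraMap C St (t' * a) * algebraMap C St h + algebraMap C St (t' * (t * c - a * h)) := by
      simp only [map_mul, map_sub]; ring
    rw [e']
    refine add_mem (Submodule.mem_sup_left (Ideal.mul_mem_left _ _ (Ideal.mem_span_singleton_self _)))
      (Submodule.mem_sup_right ?_)
    rw [smul_eq_mul]
    exact Ideal.mul_mono_left hpm h3
  -- spreading out
  have hG : ∃ G ∉ q, ∀ c ∈ J, G * c ∈ Ideal.span {h} := by
    let K : Ideal C := (Ideal.span {h}).colon (J : Set C)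
    suffices ¬ K ≤ q by
      obtain ⟨G, hGK, hGq⟩ := SetLike.not_le_iff_exists.1 this
      exact ⟨G, hGq, fun c hc => Submodule.mem_colon.1 hGK c hc⟩
    classical
    obtain ⟨T, hT⟩ := hJ
    have hc : ∀ c : T, ∃ m ∉ q, m * c.1 ∈ Ideal.span {h} := fun c => by
      have h4 := hle (Ideal.mem_map_of_mem _ (hT ▸ Ideal.subset_span c.2 : c.1 ∈ J))
      rw [← Set.image_singleton, ← Ideal.map_span] at h4
      obtain ⟨m, hm, hm'⟩ := (IsLocalization.algebraMap_mem_map_algebraMap_iff q.primeCompl St _ _).1 h4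
      exact ⟨m, hm, hm'⟩
    choose m hm hm' using hc
    intro hK
    have hmem : ∏ c, m c ∈ K := by
      refine Submodule.mem_colon.2 fun c hcJ => ?_
      have : J ≤ Submodule.comap (LinearMap.mulLeft C (∏ c, m c)) (Ideal.span {h}) := by
        conv_lhs => rw [← hT]
        refine Ideal.span_le.2 fun c hcT => ?_
        show (∏ c, m c) * c ∈ Ideal.span {h}
        rw [← Finset.prod_erase_mul _ _ (Finset.mem_univ (⟨c, hcT⟩ : T)), mul_assoc]
        exact Ideal.mul_mem_left _ _ (hm' ⟨c, hcT⟩)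
      exact this hcJ
    obtain ⟨c, -, hc⟩ := (inferInstance : q.IsPrime).prod_mem_iff.1 (hK hmem)
    exact hm c hc
  obtain ⟨G, hG, hGJ⟩ := hG
  refine ⟨X.affineBasicOpen G, (X.mem_basicOpen _ _ hxU).mpr (IsLocalization.map_units St (⟨G, hG⟩ : q.primeCompl)),
    (X.presheaf.map (homOfLE (X.basicOpen_le G)).op) h, ?_⟩
  rw [← I.map_ideal (X.affineBasicOpen_le G)]
  refine le_antisymm ?_ ((Ideal.span_singleton_le_iff_mem _).2 (Ideal.mem_map_of_mem _ hhJ))
  rw [Ideal.map_le_iff_le_comap]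
  intro c hc
  obtain ⟨d, hd⟩ := Ideal.mem_span_singleton'.1 (hGJ c hc)
  rw [Ideal.mem_comap]
  refine (Ideal.unit_mul_mem_iff_mem _ (RingedSpace.isUnit_res_basicOpen (X := X.toRingedSpace) G)).1 ?_
  change (X.presheaf.map (homOfLE (X.basicOpen_le G)).op) G * (X.presheaf.map (homOfLE (X.basicOpen_le G)).op) c ∈ _
  rw [← map_mul, ← hd, map_mul]
  exact Ideal.mul_mem_left _ _ (Ideal.mem_span_singleton_self _)

end Groth.Agent.RelEff26
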