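/-
Containment of flat closed subschemes over a reduced base is tested on fibres.
-/
import Groth.Agent.Lib.CurveCartier25.Scheme
import Groth.Agent.Lib.EffCartier.Comap
import Mathlib.LinearAlgebra.TensorProduct.Pi
import Mathlib.RingTheory.Ideal.MinimalPrime.Noetherian
import Mathlib.RingTheory.IsTensorProduct

universe u

open CategoryTheory CategoryTheory.Limits AlgebraicGeometry TopologicalSpace TensorProduct

set_option backward.isDefEq.respectTransparency.types false

namespace Groth.Agent.RelEff26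

open EffCartier

/-- An element of a flat module over a reduced Noetherian ring vanishing in all fibres is zero. -/
theorem eq_zero_of_forall_fibre {A M : Type u} [CommRing A] [IsNoetherianRing A] [IsReduced A] [AddCommGroup M]
    [Module A M] [Module.Flat A M] (m : M)
    (h : ∀ p : PrimeSpectrum A, ∃ (K : Type u) (_ : Field K) (φ : A →+* K), RingHom.ker φ = p.asIdeal ∧
      letI := φ.toAlgebra; ((1 : K) ⊗ₜ[A] m) = 0) : m = 0 := by
  classical
  haveI : Finite (minimalPrimes A) := (minimalPrimes.finite_of_isNoetherianRing A).to_subtype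
  haveI := Fintype.ofFinite (minimalPrimes A)
  have h' : ∀ p : minimalPrimes A, ∃ (K : Type u) (_ : Field K) (φ : A →+* K), RingHom.ker φ = p.1 ∧
      letI := φ.toAlgebra; ((1 : K) ⊗ₜ[A] m) = 0 := fun p => h ⟨p.1, p.2.1.1⟩
  choose K hK φ hker hm using h'
  letI : ∀ p, Algebra A (K p) := fun p => (φ p).toAlgebra
  let g : A →ₗ[A] (∀ p, K p) := LinearMap.pi fun p => Algebra.linearMap A (K p)
  have hg : Function.Injective g := by
    rw [injective_iff_map_eq_zero]
    intro a ha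
    have hmem : a ∈ (⊥ : Ideal A).radical := by
      rw [← Ideal.sInf_minimalPrimes, Submodule.mem_sInf]
      intro p hp
      have := congrFun ha ⟨p, hp⟩
      show a ∈ (⟨p, hp⟩ : minimalPrimes A).1
      rw [← hker ⟨p, hp⟩, RingHom.mem_ker]
      exact this
    obtain ⟨n, hn⟩ := hmem
    exact IsReduced.eq_zero _ ⟨n, by simpa using hn⟩
  have hinj := Module.Flat.lTensor_preserves_injective_linearMap (M := M) g hg
  apply (TensorProduct.rid A M).symm.injective
  rw [map_zero]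
  apply hinj
  apply (TensorProduct.piRight A A M K).injective
  rw [map_zero, map_zero, TensorProduct.rid_symm_apply, LinearMap.lTensor_tmul, TensorProduct.piRight_apply,
    TensorProduct.piRightHom_tmul]
  funext p
  have := congrArg (TensorProduct.comm A (K p) M) (hm p)
  rw [TensorProduct.comm_tmul, map_zero] at this
  show m ⊗ₜ[A] algebraMap A (K p) 1 = 0
  rw [map_one]
  exact this

variable {X T : Scheme.{u}} (π : X ⟶ T)

theorem le_of_forall_fibre_le [IsLocallyNoetherian T] [AlgebraicGeometry.IsReduced T] (D D' : X.IdealSheafData)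
    [Flat (D'.subschemeι ≫ π)]
    (hfib : ∀ t : T, D.comap (π.fiberι t) ≤ D'.comap (π.fiberι t)) : D ≤ D' := by
  refine le_of_forall_exists fun x => ?_
  obtain ⟨_, ⟨W₀, hW, rfl⟩, hxW, -⟩ := T.isBasis_affineOpens.exists_subset_of_mem_open (Set.mem_univ (π x)) isOpen_univ
  obtain ⟨U', hU', hxU, hr⟩ := exists_isAffineOpen_mem_and_subset (X := X) (x := x) (U := π ⁻¹ᵁ W₀) hxW
  let U : X.affineOpens := ⟨U', hU'⟩
  have hr : U.1 ≤ π ⁻¹ᵁ W₀ := hr
  refine ⟨U, hxU, fun a ha => ?_⟩
  let A := Γ(T, W₀)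
  let B := Γ(X, U.1)
  haveI : IsNoetherianRing A := IsLocallyNoetherian.component_noetherian ⟨W₀, hW⟩
  letI : Algebra A B := (π.appLE W₀ U.1 hr).hom.toAlgebra
  haveI : Module.Flat A (B ⧸ D'.ideal U) := by
    rw [← RingHom.flat_algebraMap_iff]
    exact CurveCartier25.prop_quotient (P := @Flat) π D' inferInstance ⟨W₀, hW⟩ U hr
  rw [← Ideal.Quotient.eq_zero_iff_mem]
  refine eq_zero_of_forall_fibre (A := A) (M := B ⧸ D'.ideal U) _ fun p => ?_
  let t : T := hW.fromSpec p
  have htW : t ∈ W₀ := by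
    rw [← SetLike.mem_coe, ← hW.range_fromSpec]
    exact ⟨p, rfl⟩
  let g : Spec (T.residueField t) ⟶ T := T.fromSpecResidueField t
  have hgW : (⊤ : (Spec (T.residueField t)).Opens) ≤ g ⁻¹ᵁ W₀ := by
    intro y _
    have : g y ∈ Set.range g := ⟨y, rfl⟩
    rw [show Set.range g = {t} from Scheme.range_fromSpecResidueField t] at this
    show g y ∈ W₀
    rw [this]; exact htW
  let K := T.residueField t
  let γ : Γ(Spec K, ⊤) ⟶ K := (Scheme.ΓSpecIso K).hom
  let φ : A →+* K := (g.appLE W₀ ⊤ hgW ≫ γ).hom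
  have hker : RingHom.ker φ = p.asIdeal := by
    ext a
    have h1 : φ a = 0 ↔ g.appLE W₀ ⊤ hgW a = 0 := by
      show γ (g.appLE W₀ ⊤ hgW a) = 0 ↔ _
      exact map_eq_zero_iff _ (ConcreteCategory.bijective_of_isIso γ).1
    have h2 : t ∈ (T.basicOpen (U := W₀) a : T.Opens) ↔ a ∉ p.asIdeal := by
      show p ∈ hW.fromSpec ⁻¹ᵁ T.basicOpen a ↔ _
      rw [hW.fromSpec_preimage_basicOpen]
      rfl
    rw [RingHom.mem_ker, h1, ← AlgebraicGeometry.basicOpen_eq_bot_iff, Scheme.basicOpen_appLE, top_inf_eq]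
    constructor
    · intro h
      by_contra hne
      have hy : (IsLocalRing.closedPoint K : Spec K) ∈ g ⁻¹ᵁ (T.basicOpen (U := W₀) a : T.Opens) := by
        show g (IsLocalRing.closedPoint K) ∈ (T.basicOpen (U := W₀) a : T.Opens)
        rw [Scheme.fromSpecResidueField_apply]
        exact h2.2 hne
      rw [h] at hy
      exact hy.elim
    · intro h
      refine le_bot_iff.1 fun y hy => ?_
      have hy' : g y ∈ T.basicOpen a := hy
      rw [Scheme.fromSpecResidueField_apply] at hy'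
      exact absurd h (h2.1 hy')
  refine ⟨K, inferInstance, φ, hker, ?_⟩
  letI : Algebra A K := φ.toAlgebra
  letI : Algebra A (IsLocalRing.ResidueField (T.presheaf.stalk t)) := φ.toAlgebra
  let P := π.fiber t
  let V₀ : P.Opens := π.fiberι t ⁻¹ᵁ U.1 ⊓ π.fiberToSpecResidueField t ⁻¹ᵁ ⊤
  have H : IsPullback (π.fiberι t) (π.fiberToSpecResidueField t) π g := IsPullback.of_hasPullback π g
  haveI : IsAffine (U.1 : Scheme.{u}) := U.2
  haveI : IsAffine (W₀ : Scheme.{u}) := hW
  haveI : IsAffine ((⊤ : (Spec K).Opens) : Scheme.{u}) := isAffineOpen_top _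
  have hV : IsAffineOpen V₀ :=
    .of_isIso (Scheme.Hom.isPullback_resLE H hgW hr (UY := V₀) rfl).isoPullback.hom
  have hpush := (isIso_pushoutSection_iff H hgW hr (hUY := rfl)).1
    (isIso_pushoutSection_of_isAffineOpen H hgW hr rfl hW (isAffineOpen_top _) U.2)
  let Q : CommRingCat.{u} := CommRingCat.of (↑K ⊗[A] (B ⧸ D'.ideal U))
  let iB : Γ(X, U.1) ⟶ Q := CommRingCat.ofHom
    ((Algebra.TensorProduct.includeRight : (B ⧸ D'.ideal U) →ₐ[A] ↑K ⊗[A] (B ⧸ D'.ideal U)).toRingHom.comp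
      (Ideal.Quotient.mk (D'.ideal U)))
  let iK : Γ(Spec K, ⊤) ⟶ Q := γ ≫ CommRingCat.ofHom (S := ↑Q)
    (Algebra.TensorProduct.includeLeftRingHom (R := A) (A := ↑K) (B := B ⧸ D'.ideal U))
  have hcomm : π.appLE W₀ U.1 hr ≫ iB = g.appLE W₀ ⊤ hgW ≫ iK := by
    ext x
    show (1 : K) ⊗ₜ[A] Ideal.Quotient.mk (D'.ideal U) (algebraMap A B x) = φ x ⊗ₜ[A] (1 : B ⧸ D'.ideal U)
    rw [show Ideal.Quotient.mk (D'.ideal U) (algebraMap A B x) = x • (1 : B ⧸ D'.ideal U) from
      (Algebra.algebraMap_eq_smul_one (A := B ⧸ D'.ideal U) x), TensorProduct.tmul_smul,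
      TensorProduct.smul_tmul', Algebra.smul_def, mul_one]
    rfl
  let ψ := hpush.desc iB iK hcomm
  have hle : V₀ ≤ π.fiberι t ⁻¹ᵁ U.1 := inf_le_left
  have hψ : ∀ b, ψ ((π.fiberι t).appLE U.1 V₀ hle b) = iB b := fun b =>
    congrArg (fun k => k b) (congrArg (fun q => (ConcreteCategory.hom q : Γ(X, U.1) → Q)) (hpush.inl_desc iB iK hcomm))
  have h3 := hfib t (⟨V₀, hV⟩ : P.affineOpens)
  rw [comap_ideal D (π.fiberι t) U ⟨V₀, hV⟩ hle, comap_ideal D' (π.fiberι t) U ⟨V₀, hV⟩ hle] at h3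
  have h4 : (D'.ideal U).map ((π.fiberι t).appLE U.1 V₀ hle).hom ≤ RingHom.ker ψ.hom := by
    rw [Ideal.map_le_iff_le_comap]
    intro b hb
    show ψ _ = 0
    rw [hψ b]
    show (1 : K) ⊗ₜ[A] Ideal.Quotient.mk (D'.ideal U) b = 0
    rw [Ideal.Quotient.eq_zero_iff_mem.2 hb, TensorProduct.tmul_zero]
  have h5 := h4 (h3 (Ideal.mem_map_of_mem _ ha))
  rw [RingHom.mem_ker] at h5
  exact (hψ a).symm.trans h5

end Groth.Agent.RelEff26
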