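import Groth.Agent.Lib.RelEff26.Basic
import Mathlib.RingTheory.Filtration

/-! # Flatness along a relative effective Cartier divisor at points with noetherian local ring -/

set_option autoImplicit false
universe u

set_option backward.isDefEq.respectTransparency.types false

open CategoryTheory AlgebraicGeometry TopologicalSpace
open scoped nonZeroDivisors TensorProduct

namespace Groth.Agent.RelEff26

/-- Flatness of a noetherian local ring of `C` from flatness modulo a regular element. -/
theorem flat_local_of_quotient {A C : Type u} [CommRing A] [CommRing C] [Algebra A C] {g : C} (hg : g ∈ C⁰)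
    (p : Ideal C) [p.IsPrime] (hgp : g ∈ p) (B : Type u) [CommRing B] [Algebra C B] [Algebra A B]
    [IsScalarTower A C B] [IsLocalization.AtPrime B p] [IsNoetherianRing B] [IsLocalRing B]
    [Module.Flat A (C ⧸ Ideal.span {g})] : Module.Flat A B := by
  refine Module.Flat.iff_rTensor_injective.2 fun J hJ => ?_
  haveI : Module.Finite A J := Module.Finite.iff_fg.2 hJ
  let φ : C →ₗ[A] C := LinearMap.mulLeft A g
  let π : C →ₗ[A] C ⧸ Ideal.span {g} := (Ideal.Quotient.mkₐ A (Ideal.span {g})).toLinearMap
  have hex : Function.Exact φ π := fun c => by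
    constructor
    · intro hc
      obtain ⟨d, hd⟩ := Ideal.mem_span_singleton'.1 (Ideal.Quotient.eq_zero_iff_mem.1 hc)
      exact ⟨d, (mul_comm g d).trans hd⟩
    · rintro ⟨d, rfl⟩
      exact Ideal.Quotient.eq_zero_iff_mem.2 (Ideal.mem_span_singleton'.2 ⟨d, mul_comm d g⟩)
  let μC : C ⊗[A] J →ₗ[C] C := TensorProduct.AlgebraTensorModule.lift
    { toFun := fun c => ((LinearMap.toSpanSingleton C C c).restrictScalars A).comp
        ((Algebra.linearMap A C).comp J.subtype)
      map_add' := fun c d => LinearMap.ext fun a => mul_add (algebraMap A C a) c d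
      map_smul' := fun c d => LinearMap.ext fun a => mul_left_comm (algebraMap A C a) c d }
  have hμC : ∀ (c : C) (a : J), μC (c ⊗ₜ a) = algebraMap A C a * c := fun c a => rfl
  have step : ∀ x : C ⊗[A] J, μC x = 0 → ∃ y, μC y = 0 ∧ x = g • y := by
    intro x hx
    let x' := TensorProduct.comm A C J x
    have h1 : π.lTensor J x' = 0 := by
      apply Module.Flat.rTensor_preserves_injective_linearMap (M := C ⧸ Ideal.span {g}) J.subtype J.injective_subtype
      rw [map_zero]
      have key : ∀ z : C ⊗[A] J, J.subtype.rTensor _ (π.lTensor J (TensorProduct.comm A C J z)) =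
          1 ⊗ₜ π (μC z) := fun z => by
        induction z using TensorProduct.induction_on with
        | zero => simp only [map_zero, TensorProduct.tmul_zero]
        | tmul c a =>
          rw [hμC, ← Algebra.smul_def, map_smul, TensorProduct.tmul_smul, TensorProduct.smul_tmul']
          show (a : A) ⊗ₜ π c = _
          rw [smul_eq_mul, mul_one]
        | add a b ha hb => simp only [map_add, TensorProduct.tmul_add, ha, hb]
      rw [key, hx, map_zero, TensorProduct.tmul_zero]
    obtain ⟨y', hy'⟩ := (lTensor_exact J hex Ideal.Quotient.mk_surjective x').1 h1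
    have key : ∀ z : J ⊗[A] C, (TensorProduct.comm A C J).symm (φ.lTensor J z) =
        g • (TensorProduct.comm A C J).symm z := fun z => by
      induction z using TensorProduct.induction_on with
      | zero => simp only [map_zero, smul_zero]
      | tmul a c => rfl
      | add a b ha hb => simp only [map_add, smul_add, ha, hb]
    have hxy : x = g • (TensorProduct.comm A C J).symm y' := by
      rw [← key, hy', LinearEquiv.symm_apply_apply]
    refine ⟨_, ?_, hxy⟩
    rw [hxy, map_smul] at hx
    exact (mem_nonZeroDivisors_iff.1 hg).1 _ hx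
  let loc : C →ₗ[C] B := Algebra.linearMap C B
  haveI : IsLocalizedModule p.primeCompl loc := (isLocalizedModule_iff_isLocalization' _ _).2 inferInstance
  let ψ : C ⊗[A] J →ₗ[C] B ⊗[A] J := TensorProduct.AlgebraTensorModule.rTensor A J loc
  haveI : IsLocalizedModule p.primeCompl ψ := inferInstance
  have hpow : ∀ (n : ℕ) (x : C ⊗[A] J), μC x = 0 → ∃ y, x = g ^ n • y := by
    intro n
    induction n with
    | zero => exact fun x _ => ⟨x, by rw [pow_zero, one_smul]⟩
    | succ n ih =>
      intro x hx
      obtain ⟨y, hy, rfl⟩ := step x hx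
      obtain ⟨z, rfl⟩ := ih y hy
      exact ⟨z, by rw [pow_succ', mul_smul]⟩
  rw [injective_iff_map_eq_zero]
  intro x hx
  obtain ⟨⟨y, t⟩, ht⟩ := IsLocalizedModule.surj p.primeCompl ψ (TensorProduct.comm A J B x)
  let μB : B ⊗[A] J →ₗ[A] B := (TensorProduct.lid A B).toLinearMap ∘ₗ (J.subtype.rTensor B) ∘ₗ
    (TensorProduct.comm A B J).toLinearMap
  have hμ : ∀ z, μB (ψ z) = algebraMap C B (μC z) := fun z => by
    induction z using TensorProduct.induction_on with
    | zero => simp only [map_zero]
    | tmul c a =>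
      rw [hμC, map_mul, ← IsScalarTower.algebraMap_apply]
      exact Algebra.smul_def _ _
    | add a b ha hb => simp only [map_add, ha, hb]
  have hμs : ∀ (c : C) (z : B ⊗[A] J), μB (c • z) = c • μB z := fun c z => by
    induction z using TensorProduct.induction_on with
    | zero => simp only [map_zero, smul_zero]
    | tmul b a => exact (smul_comm c (a : A) b).symm
    | add a b ha hb => simp only [map_add, smul_add, ha, hb]
  have hμx : μB (TensorProduct.comm A J B x) = 0 := by
    show TensorProduct.lid A B (J.subtype.rTensor B (TensorProduct.comm A B J (TensorProduct.comm A J B x))) = 0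
    rw [show TensorProduct.comm A B J (TensorProduct.comm A J B x) = x from
      (TensorProduct.comm A J B).symm_apply_apply x, hx, map_zero]
  have h0 : algebraMap C B (μC y) = 0 := by
    rw [← hμ, ← ht]
    show μB ((t : C) • _) = 0
    rw [hμs, hμx, smul_zero]
  obtain ⟨s, hs⟩ := (IsLocalization.map_eq_zero_iff p.primeCompl B _).1 h0
  have hys : μC ((s : C) • y) = 0 := by rw [map_smul]; exact hs
  have hzero : ψ ((s : C) • y) = 0 := by
    have hI : Ideal.span {algebraMap C B g} ≠ ⊤ := fun h => by
      have : IsUnit (algebraMap C B g) := Ideal.span_singleton_eq_top.1 h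
      exact (IsLocalization.AtPrime.isUnit_to_map_iff B p g).1 this hgp
    have hbot := Ideal.iInf_pow_smul_eq_bot_of_isLocalRing (M := B ⊗[A] J) _ hI
    rw [← Submodule.mem_bot B, ← hbot, Submodule.mem_iInf]
    intro n
    obtain ⟨z, hz⟩ := hpow n _ hys
    rw [hz, map_smul, Ideal.span_singleton_pow, ← algebraMap_smul B (g ^ n) (ψ z), map_pow]
    exact Submodule.smul_mem_smul (Ideal.mem_span_singleton_self _) trivial
  rw [map_smul, ← ht] at hzero
  have h1 : (s : C) • ((t : C) • TensorProduct.comm A J B x) = 0 := hzero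
  rw [← algebraMap_smul B, ← algebraMap_smul B (t : C)] at h1
  have h2 : TensorProduct.comm A J B x = 0 :=
    (IsLocalization.map_units B t).smul_eq_zero.1 ((IsLocalization.map_units B s).smul_eq_zero.1 h1)
  exact (TensorProduct.comm A J B).map_eq_zero_iff.1 h2

/-- At a point of a relative effective Cartier divisor with noetherian local ring, the morphism is flat. -/
theorem flat_stalkMap_of_mem {X S : Scheme.{u}} (f : X ⟶ S) (I : X.IdealSheafData)
    (hI : BlowUp.IsEffCartierIdeal I) (hfI : Flat (I.subschemeι ≫ f)) (x : X) (hx : x ∈ I.support)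
    [IsNoetherianRing (X.presheaf.stalk x)] : (f.stalkMap x).hom.Flat := by
  obtain ⟨U, hxU⟩ := exists_charts f x
  obtain ⟨V, hxV, e, g, hg⟩ := EffCartier.exists_isEqn hI (x := x) (W := f ⁻¹ᵁ U.1) hxU
  let p := (V.2.primeIdealOf ⟨x, hxV⟩).asIdeal
  letI := (X.presheaf.algebra_section_stalk (⟨x, hxV⟩ : V.1))
  haveI : IsLocalization.AtPrime (X.presheaf.stalk x) p := V.2.isLocalization_stalk ⟨x, hxV⟩
  letI := (S.presheaf.algebra_section_stalk (⟨f x, hxU⟩ : U.1))
  haveI : IsLocalization.AtPrime (S.presheaf.stalk (f x)) (U.2.primeIdealOf ⟨f x, hxU⟩).asIdeal :=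
    U.2.isLocalization_stalk ⟨f x, hxU⟩
  letI : Algebra (S.presheaf.stalk (f x)) (X.presheaf.stalk x) := (f.stalkMap x).hom.toAlgebra
  letI : Algebra Γ(S, U.1) Γ(X, V.1) := (f.appLE U.1 V.1 e).hom.toAlgebra
  letI : Algebra Γ(S, U.1) (X.presheaf.stalk x) :=
    ((X.presheaf.germ V.1 x hxV).hom.comp (f.appLE U.1 V.1 e).hom).toAlgebra
  haveI : IsScalarTower Γ(S, U.1) Γ(X, V.1) (X.presheaf.stalk x) := IsScalarTower.of_algebraMap_eq fun _ => rfl
  haveI : IsScalarTower Γ(S, U.1) (S.presheaf.stalk (f x)) (X.presheaf.stalk x) :=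
    IsScalarTower.of_algebraMap_eq fun a => by
      show X.presheaf.germ V.1 x hxV (f.appLE U.1 V.1 e a) = f.stalkMap x (S.presheaf.germ U.1 (f x) hxU a)
      rw [Scheme.Hom.germ_stalkMap_apply, Scheme.Hom.appLE]
      exact TopCat.Presheaf.germ_res_apply X.presheaf (homOfLE e) x hxV _
  haveI : Module.Flat Γ(S, U.1) (Γ(X, V.1) ⧸ Ideal.span {g}) := by
    have hq : Module.Flat Γ(S, U.1) (Γ(X, V.1) ⧸ I.ideal V) := by
      rw [← RingHom.flat_algebraMap_iff]
      exact CurveCartier25.prop_quotient (P := @Flat) f I hfI U V e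
    exact hg.ideal_eq ▸ hq
  have hgp : g ∈ p := by
    by_contra hgp
    have hu : IsUnit (algebraMap Γ(X, V.1) (X.presheaf.stalk x) g) :=
      IsLocalization.map_units (X.presheaf.stalk x) (⟨g, hgp⟩ : p.primeCompl)
    have hb : x ∈ X.basicOpen g := (Scheme.mem_basicOpen X g x hxV).2 hu
    rw [EffCartier.basicOpen_eq hg] at hb
    exact hb.1 hx
  have hfl : Module.Flat Γ(S, U.1) (X.presheaf.stalk x) := flat_local_of_quotient hg.mem p hgp _
  exact RingHom.flat_algebraMap_iff.2 ((Module.flat_iff_of_isLocalization (S.presheaf.stalk (f x))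
    (U.2.primeIdealOf ⟨f x, hxU⟩).asIdeal.primeCompl _).2 hfl)

end Groth.Agent.RelEff26
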