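/-
Flatness along a flat effective Cartier divisor, finitely presented case.
-/
import Groth.Agent.Lib.RelEff26.Noeth
import Groth.Agent.Lib.FlatH4.FlatDescent
import Groth.Agent.Lib.FlatH4.NoethApprox
import Groth.Agent.Lib.FlatH4.FibreModels
import Groth.Agent.Lib.FlatH4.FlatLocusScheme

universe u

open CategoryTheory AlgebraicGeometry TopologicalSpace
open scoped nonZeroDivisors TensorProduct

set_option backward.isDefEq.respectTransparency.types false

namespace Groth.Agent.RelEff26

/-- The noetherian model case. -/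
theorem flat_atPrime_of_model {A C : Type u} [CommRing A] [CommRing C] [Algebra A C]
    (R C₂ : Type u) [CommRing R] [IsNoetherianRing R] [Algebra R A] [CommRing C₂] [Algebra R C₂]
    [Algebra.FiniteType R C₂] (hinj : Function.Injective (algebraMap R A))
    (ψ : A ⊗[R] C₂ ≃ₐ[A] C) (g₂ : C₂) [Module.Flat R (C₂ ⧸ Ideal.span {g₂})]
    (hg : ψ (1 ⊗ₜ g₂) ∈ C⁰) (q : Ideal C) [q.IsPrime] (hq : ψ (1 ⊗ₜ g₂) ∈ q) :
    Module.Flat A (Localization.AtPrime q) := by
  let θ : C₂ →+* C := ψ.toAlgHom.toRingHom.comp (Algebra.TensorProduct.includeRight (R := R) (A := A) (B := C₂)).toRingHom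
  have hθ : ∀ x, θ x = ψ (1 ⊗ₜ x) := fun x => rfl
  let K := RingHom.ker θ
  have hK : K ≤ Ideal.span {g₂} := fun x hx => by
    have h0 : (1 : A) ⊗ₜ[R] x = 0 := ψ.injective (((hθ x).symm.trans (RingHom.mem_ker.1 hx)).trans (map_zero ψ).symm)
    have h1 := congrArg (Algebra.TensorProduct.map (AlgHom.id R A) (Ideal.Quotient.mkₐ R (Ideal.span {g₂}))) h0
    rw [map_zero, Algebra.TensorProduct.map_tmul] at h1
    rw [← Ideal.Quotient.eq_zero_iff_mem]
    exact Algebra.TensorProduct.includeRight_injective (R := R) (A := A) (B := C₂ ⧸ Ideal.span {g₂}) hinj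
      (h1.trans (map_zero _).symm)
  haveI : IsNoetherianRing C₂ := Algebra.FiniteType.isNoetherianRing R C₂
  let C' := C₂ ⧸ K
  let θ' : C' →+* C := θ.kerLift
  letI : Algebra C' C := θ'.toAlgebra
  letI : Algebra R C := ((algebraMap A C).comp (algebraMap R A)).toAlgebra
  haveI : IsScalarTower R A C := IsScalarTower.of_algebraMap_eq fun _ => rfl
  haveI : IsScalarTower R C' C := IsScalarTower.of_algebraMap_eq fun r => by
    show algebraMap A C (algebraMap R A r) = θ' (Ideal.Quotient.mk K (algebraMap R C₂ r))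
    rw [show θ' (Ideal.Quotient.mk K (algebraMap R C₂ r)) = θ (algebraMap R C₂ r) from rfl, hθ,
      Algebra.algebraMap_eq_smul_one r (A := C₂), TensorProduct.tmul_smul, ← IsScalarTower.algebraMap_smul A r
        ((1 : A) ⊗ₜ[R] (1 : C₂)), map_smul, ← Algebra.TensorProduct.one_def, map_one, Algebra.algebraMap_eq_smul_one]
  let g' : C' := Ideal.Quotient.mk K g₂
  have hg' : g' ∈ C'⁰ := by
    rw [mem_nonZeroDivisors_iff_right]
    intro c hc
    apply θ.kerLift_injective
    rw [map_zero]
    refine (mem_nonZeroDivisors_iff_right.1 hg) _ ?_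
    have := congrArg θ' hc
    rwa [map_mul, map_zero] at this
  haveI : Module.Flat R (C' ⧸ Ideal.span {g'}) := by
    have e := (DoubleQuot.quotQuotEquivQuotSupₐ R K (Ideal.span {g₂})).trans
      (Ideal.quotientEquivAlgOfEq R (sup_eq_right.2 hK))
    have he : (Ideal.span {g₂}).map (Ideal.Quotient.mkₐ R K) = Ideal.span {g'} := by
      rw [Ideal.map_span, Set.image_singleton]; rfl
    exact Module.Flat.of_linearEquiv ((Ideal.quotientEquivAlgOfEq R he.symm).trans e).toLinearEquiv
  haveI : Algebra.IsPushout R A C' C := by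
    let Φ : A ⊗[R] C' →ₐ[A] C := Algebra.TensorProduct.lift (Algebra.ofId A C) (IsScalarTower.toAlgHom R C' C)
      fun _ _ => Commute.all _ _
    let π : A ⊗[R] C₂ →ₐ[A] A ⊗[R] C' := Algebra.TensorProduct.map (AlgHom.id A A) (Ideal.Quotient.mkₐ R K)
    have hπ : Function.Surjective π :=
      TensorProduct.map_surjective (g := LinearMap.id) (g' := (Ideal.Quotient.mkₐ R K).toLinearMap)
        Function.surjective_id Ideal.Quotient.mk_surjective
    have hcomp : ∀ z, Φ (π z) = ψ z := fun z => by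
      induction z using TensorProduct.induction_on with
      | zero => simp only [map_zero]
      | add a b ha hb => simp only [map_add, ha, hb]
      | tmul a x =>
        simp only [π, Φ, Algebra.TensorProduct.map_tmul, Algebra.TensorProduct.lift_tmul, AlgHom.id_apply]
        rw [show (a ⊗ₜ[R] x : A ⊗[R] C₂) = a • ((1 : A) ⊗ₜ[R] x) by rw [TensorProduct.smul_tmul', smul_eq_mul, mul_one],
          map_smul, Algebra.smul_def]
        rfl
    have hbij : Function.Bijective Φ := by
      refine ⟨fun a b hab => ?_, fun c => ?_⟩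
      · obtain ⟨a, rfl⟩ := hπ a
        obtain ⟨b, rfl⟩ := hπ b
        rw [hcomp, hcomp] at hab
        rw [ψ.injective hab]
      · obtain ⟨z, rfl⟩ := ψ.surjective c
        exact ⟨π z, hcomp z⟩
    refine ⟨IsBaseChange.of_equiv (AlgEquiv.ofBijective Φ hbij).toLinearEquiv fun x => ?_⟩
    show Φ (1 ⊗ₜ x) = _
    rw [Algebra.TensorProduct.lift_tmul, map_one, one_mul]
    rfl
  let p := q.comap (algebraMap C' C)
  let B := Localization.AtPrime p
  haveI : IsNoetherianRing C' := inferInstance
  haveI : IsNoetherianRing B := IsLocalization.isNoetherianRing p.primeCompl B inferInstance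
  haveI : Module.Flat R B := flat_local_of_quotient hg' p (show θ' g' ∈ q from hq) B
  let T := Algebra.algebraMapSubmonoid C p.primeCompl
  let L := Localization T
  haveI : Algebra.IsPushout C' B C L := (Algebra.isPushout_of_isLocalization p.primeCompl B C L).symm
  haveI : IsScalarTower R B L := IsScalarTower.of_algebraMap_eq fun r => by
    rw [IsScalarTower.algebraMap_apply R C' B, ← IsScalarTower.algebraMap_apply C' B L,
      ← IsScalarTower.algebraMap_apply R C' L]
  haveI : Algebra.IsPushout R C' A C := .symm inferInstance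
  haveI : Algebra.IsPushout R B A L := (Algebra.IsPushout.comp_iff R C' A C).2 (inferInstance : Algebra.IsPushout C' B C L)
  haveI : Algebra.IsPushout R A B L := .symm inferInstance
  haveI : Module.Flat A L := Module.Flat.of_linearEquiv (Algebra.IsPushout.equiv R A B L).symm.toLinearEquiv
  have hT : T ≤ q.primeCompl := by
    rintro _ ⟨c, hc, rfl⟩
    exact hc
  letI := IsLocalization.localizationAlgebraOfSubmonoidLe L (Localization.AtPrime q) T q.primeCompl hT
  haveI := IsLocalization.localization_isScalarTower_of_submonoid_le L (Localization.AtPrime q) T q.primeCompl hT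
  haveI := IsLocalization.isLocalization_of_submonoid_le L (Localization.AtPrime q) T q.primeCompl hT
  haveI : Module.Flat L (Localization.AtPrime q) := IsLocalization.flat _ (q.primeCompl.map (algebraMap C L))
  haveI : IsScalarTower A L (Localization.AtPrime q) := IsScalarTower.of_algebraMap_eq fun a => by
    rw [IsScalarTower.algebraMap_apply A C L, ← IsScalarTower.algebraMap_apply C L (Localization.AtPrime q),
      ← IsScalarTower.algebraMap_apply A C (Localization.AtPrime q)]
  exact Module.Flat.trans A L _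

/-- The model case before flattening the model. -/
theorem flat_atPrime_of_approx {A C : Type u} [CommRing A] [CommRing C] [Algebra A C]
    (B C₁ : Type u) [CommRing B] [IsNoetherianRing B] [Algebra B A] [CommRing C₁] [Algebra B C₁]
    [Algebra.FiniteType B C₁] (ψ : A ⊗[B] C₁ ≃ₐ[A] C) (y : C₁) (hg : ψ (1 ⊗ₜ y) ∈ C⁰)
    (hflatC : Module.Flat A (C ⧸ Ideal.span {ψ (1 ⊗ₜ y)})) (q : Ideal C) [q.IsPrime]
    (hq : ψ (1 ⊗ₜ y) ∈ q) : Module.Flat A (Localization.AtPrime q) := by
  haveI := hflatC
  let g := ψ (1 ⊗ₜ y)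
  have hψ : ψ (1 ⊗ₜ y) = g := rfl
  let M := C₁ ⧸ Ideal.span {y}
  haveI : Module.Flat A (A ⊗[B] M) := by
    let e₁ := Algebra.TensorProduct.tensorQuotientEquiv (R := B) A C₁ A (Ideal.span {y})
    have he : Ideal.span {g} = ((Ideal.span {y}).map (Algebra.TensorProduct.includeRight (A := A) (R := B))).map
        (ψ : A ⊗[B] C₁ →+* C) := by
      rw [Ideal.map_span, Set.image_singleton, Ideal.map_span, Set.image_singleton]
      exact congrArg (fun z => Ideal.span {z}) hψ.symm
    exact Module.Flat.of_linearEquiv (e₁.trans (Ideal.quotientEquivAlg _ _ ψ he)).toLinearEquiv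
  haveI : Algebra.FiniteType B C₁ := inferInstance
  obtain ⟨B₂, hB₂, hflat⟩ := FlatH4.exists_subalgebra_flat B A C₁ M
  haveI : IsNoetherianRing B₂ := isNoetherianRing_of_fg hB₂
  haveI := hflat B₂ le_rfl hB₂
  let C₂ := B₂ ⊗[B] C₁
  let y₂ : C₂ := 1 ⊗ₜ y
  let ψ₂ : A ⊗[B₂] C₂ ≃ₐ[A] C := (Algebra.TensorProduct.cancelBaseChange B B₂ A A C₁).trans ψ
  have hψ₂ : ψ₂ (1 ⊗ₜ y₂) = g := by
    rw [← hψ]
    show ψ (Algebra.TensorProduct.cancelBaseChange B B₂ A A C₁ (1 ⊗ₜ (1 ⊗ₜ y))) = _
    rw [Algebra.TensorProduct.cancelBaseChange_tmul, one_smul]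
  haveI : Module.Flat B₂ (C₂ ⧸ Ideal.span {y₂}) := by
    let e₁ := Algebra.TensorProduct.tensorQuotientEquiv (R := B) B₂ C₁ B₂ (Ideal.span {y})
    have he : (Ideal.span {y}).map (Algebra.TensorProduct.includeRight (A := B₂) (R := B)) = Ideal.span {y₂} := by
      rw [Ideal.map_span, Set.image_singleton]; rfl
    exact Module.Flat.of_linearEquiv (e₁.trans (Ideal.quotientEquivAlgOfEq B₂ he)).symm.toLinearEquiv
  exact flat_atPrime_of_model B₂ C₂ Subtype.val_injective ψ₂ y₂ (hψ₂.symm ▸ hg) q (hψ₂.symm ▸ hq)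


/-- Flatness at the points of `V(g)` for `g` a nonzerodivisor with flat quotient. -/
theorem flat_atPrime_of_quotient {A C : Type u} [CommRing A] [CommRing C] [Algebra A C]
    [Algebra.FinitePresentation A C] {g : C} (hg : g ∈ C⁰) [Module.Flat A (C ⧸ Ideal.span {g})]
    (q : Ideal C) [q.IsPrime] (hq : g ∈ q) : Module.Flat A (Localization.AtPrime q) := by
  classical
  obtain ⟨R₀, C₀, _, _, _, _, hR₀, hC₀, ⟨e⟩⟩ := FlatH4.exists_approx A C
  haveI : IsNoetherianRing R₀ := Algebra.FiniteType.isNoetherianRing ℤ R₀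
  obtain ⟨B, hB, hrange⟩ := FlatH4.exists_subalgebra_subset_range e {g}
  obtain ⟨y, hy⟩ := hrange g (Finset.mem_singleton_self g)
  haveI : IsNoetherianRing B := isNoetherianRing_of_fg hB
  let C₁ := B ⊗[R₀] C₀
  let ψ : A ⊗[B] C₁ ≃ₐ[A] C := (Algebra.TensorProduct.cancelBaseChange R₀ B A A C₀).trans e
  have hψ : ψ (1 ⊗ₜ y) = g := by
    rw [← hy]
    show e (Algebra.TensorProduct.cancelBaseChange R₀ B A A C₀ (1 ⊗ₜ y)) = _
    congr 1
    clear hy
    induction y using TensorProduct.induction_on with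
    | zero => simp
    | add a b ha hb => simp only [TensorProduct.tmul_add, map_add, ha, hb]
    | tmul b s => simp [Algebra.smul_def]
  exact flat_atPrime_of_approx B C₁ ψ y (hψ.symm ▸ hg) (hψ.symm ▸ inferInstance) q (hψ.symm ▸ hq)

/-- A morphism of finite presentation is flat along a flat effective Cartier divisor. -/
theorem flat_stalkMap_of_mem_fp {X S : Scheme.{u}} (f : X ⟶ S) [LocallyOfFinitePresentation f]
    (I : X.IdealSheafData) (hI : BlowUp.IsEffCartierIdeal I) (hfI : Flat (I.subschemeι ≫ f)) (x : X)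
    (hx : x ∈ I.support) : (f.stalkMap x).hom.Flat := by
  obtain ⟨U, hxU⟩ := exists_charts f x
  obtain ⟨V, hxV, e, g, hg⟩ := EffCartier.exists_isEqn hI (x := x) (W := f ⁻¹ᵁ U.1) hxU
  algebraize [(f.appLE U.1 V.1 e).hom]
  haveI : Algebra.FinitePresentation Γ(S, U.1) Γ(X, V.1) := f.finitePresentation_appLE U.2 V.2 e
  haveI : Module.Flat Γ(S, U.1) (Γ(X, V.1) ⧸ Ideal.span {g}) := by
    have hq : Module.Flat Γ(S, U.1) (Γ(X, V.1) ⧸ I.ideal V) := by
      rw [← RingHom.flat_algebraMap_iff]
      exact CurveCartier25.prop_quotient (P := @Flat) f I hfI U V e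
    exact hg.ideal_eq ▸ hq
  have hgp : g ∈ (V.2.primeIdealOf ⟨x, hxV⟩).asIdeal := by
    by_contra hgp
    letI := (X.presheaf.algebra_section_stalk (⟨x, hxV⟩ : V.1))
    haveI := V.2.isLocalization_stalk ⟨x, hxV⟩
    have hu : IsUnit (algebraMap Γ(X, V.1) (X.presheaf.stalk x) g) :=
      IsLocalization.map_units (X.presheaf.stalk x) (⟨g, hgp⟩ : (V.2.primeIdealOf ⟨x, hxV⟩).asIdeal.primeCompl)
    have hb : x ∈ X.basicOpen g := (Scheme.mem_basicOpen X g x hxV).2 hu
    rw [EffCartier.basicOpen_eq hg] at hb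
    exact hb.1 hx
  exact (FlatH4.flat_stalkMap_iff f U.1 U.2 V.1 V.2 e hxV).2
    ((FlatH4.flat_localization_iff _).1 (flat_atPrime_of_quotient hg.mem _ hgp))

end Groth.Agent.RelEff26
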